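import Groth.Agent.Fano.K470.CurDef
import Groth.Agent.Fano.K714.ConicIrr2

/-!
# Curves without simple zeros (node CC7 of S16526)

`W`: a component of the set `Z T (e+2)` of parametrised rational curves of degree `≤ e+2` on a smooth cubic threefold.

* `con_subset`: if no curve of `W` vanishes simply at `0`, then `W` contains all limits of parametrised conics.
* `exists_simple`: every component of `Z T (e+1)` contains a curve `s b(s)` with `b(0) ≠ 0`.

The statements of the other nodes which are used are collected in the structures `Tools` and `Nodes` (exact forms of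
`PlanTool`, `PlanLine`, `PlanCurve`); `PA T e`, `PB T e` are written out.
-/

set_option autoImplicit false
set_option linter.unusedVariables false

universe u

namespace K119.CC7

open LefPen Groth.Agent.Lefpen.H703.ZOpen Module K714.Irr K714.Frames K470.Cur K656.Trilin K714.Surf
open K714.ConicIrr

/-- the tools about closures and dimensions (nodes CT1, CT2, CT3) -/
structure Tools (k : Type u) [Field k] [IsAlgClosed k] : Prop where
  subset_cl : ∀ {V : Type u} [AddCommGroup V] [Module k V] (S : Set V), S ⊆ Cl k S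
  isZOpen_compl_cl : ∀ {V : Type u} [AddCommGroup V] [Module k V] (S : Set V), IsZOpen k (Cl k S)ᶜ
  cl_subset : ∀ {V : Type u} [AddCommGroup V] [Module k V] {S X : Set V}, S ⊆ X → IsZOpen k Xᶜ → Cl k S ⊆ X
  cl_image : ∀ {V W : Type u} [AddCommGroup V] [Module k V] [AddCommGroup W] [Module k W] {S : Set V} {φ : V → W},
    IsPolyMap k φ → ∀ {v : V}, v ∈ Cl k S → φ v ∈ Cl k (φ '' S)
  irr_cl : ∀ {V : Type u} [AddCommGroup V] [Module k V] {S : Set V}, Irr k S → Irr k (Cl k S)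
  isComp_closed : ∀ {V : Type u} [AddCommGroup V] [Module k V] {X C : Set V}, IsZOpen k Xᶜ → IsComp k X C →
    IsZOpen k Cᶜ
  exists_comp : ∀ {V : Type u} [AddCommGroup V] [Module k V] [FiniteDimensional k V] {X S : Set V},
    IsZOpen k Xᶜ → Irr k S → S ⊆ X → ∃ C, IsComp k X C ∧ S ⊆ C
  dimGE_mono : ∀ {V : Type u} [AddCommGroup V] [Module k V] {S S' : Set V} {d : ℕ}, S ⊆ S' → DimGE k S d →
    DimGE k S' d
  dimLE_mono : ∀ {V : Type u} [AddCommGroup V] [Module k V] {S S' : Set V} {d : ℕ}, S ⊆ S' → DimLE k S' d →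
    DimLE k S d
  dimGE_cl : ∀ {V : Type u} [AddCommGroup V] [Module k V] {S : Set V} {d : ℕ}, DimGE k (Cl k S) d ↔ DimGE k S d
  dimLE_image : ∀ {V W : Type u} [AddCommGroup V] [Module k V] [AddCommGroup W] [Module k W] {S : Set V} {d : ℕ},
    DimLE k S d → ∀ {φ : V → W}, IsPolyMap k φ → DimLE k (φ '' S) d
  dimLE_submodule : ∀ {V : Type u} [AddCommGroup V] [Module k V] [FiniteDimensional k V] (L : Submodule k V),
    DimLE k (L : Set V) (finrank k ↥L)
  dimGE_prod : ∀ {V W : Type u} [AddCommGroup V] [Module k V] [AddCommGroup W] [Module k W] {S : Set V} {S' : Set W}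
    {d d' : ℕ}, DimGE k S d → DimGE k S' d' → DimGE k (S ×ˢ S') (d + d')
  dimGE_inter_open : ∀ {V : Type u} [AddCommGroup V] [Module k V] {S O : Set V} {d : ℕ}, Irr k S → IsZOpen k O →
    (S ∩ O).Nonempty → DimGE k S d → DimGE k (S ∩ O) d
  eq_of_dim : ∀ {V : Type u} [AddCommGroup V] [Module k V] {S S' : Set V} {d : ℕ}, Irr k S → S' ⊆ S →
    IsZOpen k S'ᶜ → DimGE k S' d → DimLE k S d → S' = S
  dimLE_of_fibres : ∀ {V W : Type u} [AddCommGroup V] [Module k V] [AddCommGroup W] [Module k W]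
    [FiniteDimensional k V] [FiniteDimensional k W] {X O : Set (V × W)}, IsZOpen k Xᶜ → IsZOpen k O → ∀ {m r : ℕ},
    DimLE k (Prod.fst '' (X ∩ O)) m → (∀ v, DimLE k {w | (v, w) ∈ X ∩ O} r) → DimLE k (X ∩ O) (m + r)

/-- the other nodes which are used -/
structure Nodes {k : Type u} [Field k] [IsAlgClosed k]
    (T : (Fin 5 → k) →ₗ[k] (Fin 5 → k) →ₗ[k] (Fin 5 → k) →ₗ[k] k) : Prop where
  isZOpen_compl_Z : ∀ (e : ℕ), IsZOpen k (Z T e)ᶜ
  ev_prodCurve : ∀ {e : ℕ} (x : Fin 5 → k) (t : Fin e → k) (s : k), ev (prodCurve x t) s = (∏ j, (s - t j)) • x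
  comp_translate : ∀ {e : ℕ} {W : Set (A k e)}, IsComp k (Z T e) W → ∀ (c : k) {a : A k e}, a ∈ W →
    (fun i => hd a i c : A k e) ∈ W
  comp_scale : ∀ {e : ℕ} {W : Set (A k e)}, IsComp k (Z T e) W → ∀ (c r : k) {a : A k e}, a ∈ W →
    (fun i => (c * r ^ (i : ℕ)) • a i : A k e) ∈ W
  cons_mem_of_cl : ∀ {e : ℕ} {W : Set (A k (e + 1))}, IsZOpen k Wᶜ → ∀ {q : k × (Fin 5 → k) × A k e},
    q ∈ Cl k (hat W) → (Fin.cons (q.1 • q.2.1) q.2.2 : A k (e + 1)) ∈ W
  bd_eqs : ∀ {e : ℕ} {W : Set (A k (e + 1))}, W ⊆ Z T (e + 1) → ∀ {q : (Fin 5 → k) × A k e}, q ∈ bd W →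
    q.2 ∈ Z T e ∧ q.1 ∈ Cone T (q.2 0)
  exists_bd : ∀ {e : ℕ} {W : Set (A k (e + 1))}, Irr k W → ∀ {d : ℕ}, DimGE k W d →
    ∀ {q : (Fin 5 → k) × A k e}, q ∈ bd W → ∃ G : Set ((Fin 5 → k) × A k e), G ⊆ bd W ∧ Irr k G ∧
      IsZOpen k Gᶜ ∧ q ∈ G ∧ DimGE k G d
  zero_mem_bd : ∀ {e : ℕ} {W : Set (A k (e + 1))}, IsComp k (Z T (e + 1)) W → ∀ {a : A k (e + 1)}, a ∈ W →
    (a 0, (0 : A k e)) ∈ bd W
  comp_dimGE : ∀ {e : ℕ} {W : Set (A k e)}, IsComp k (Z T e) W → DimGE k W (2 * e + 4)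
  comp_ne : ∀ {e : ℕ} {W : Set (A k e)}, IsComp k (Z T e) W → ∃ a ∈ W, a 0 ≠ 0
  exists_rescale : ∀ {e : ℕ} {W : Set (A k (e + 2))}, IsComp k (Z T (e + 2)) W → ∀ {p : Fin 5 → k} {c : A k e},
    (p, (Fin.cons 0 c : A k (e + 1))) ∈ bd W → ∃ (β : k) (v : Fin 5 → k), (β ≠ 0 ∨ v ≠ 0) ∧
      ((β ^ 2, p, (pad (![v, c 0] : A k 1) : A k (e + 1))) : k × (Fin 5 → k) × A k (e + 1)) ∈ Cl k (hat W)
  irr_X0 : Irr k (X0 T)
  dimGE_X0 : DimGE k (X0 T) 4
  dimLE_X0 : DimLE k (X0 T) 4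
  exists_off_cone : ∀ {y : Fin 5 → k}, y ≠ 0 → ∃ O : Set (Fin 5 → k), IsZOpen k O ∧ (X0 T ∩ O).Nonempty ∧
    ∀ x ∈ O, T x x x = 0 → x ∉ Submodule.span k {y} ∧ (x, y) ∉ FR T
  exists_con_limit : ∃ b : A k 1, b 0 ≠ 0 ∧ (Fin.cons 0 b : A k 2) ∈ Cl k (K714.ConicIrr.Con T)
  exists_good : ∃ O : Set (Fin 5 → k), IsZOpen k O ∧ (X0 T ∩ O).Nonempty ∧ ∀ x ∈ O, T x x x = 0 → GoodPt T x

variable {k : Type u} [Field k]
variable {T : (Fin 5 → k) →ₗ[k] (Fin 5 → k) →ₗ[k] (Fin 5 → k) →ₗ[k] k}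

section Lin

/-- `b ↦ s b(s)` -/
def consL (k : Type u) [Field k] (e : ℕ) : A k e →ₗ[k] A k (e + 1) where
  toFun c := Fin.cons 0 c
  map_add' a b := by
    funext i
    refine Fin.cases ?_ (fun j => ?_) i
    · simp
    · simp
  map_smul' r a := by
    funext i
    refine Fin.cases ?_ (fun j => ?_) i
    · simp
    · simp

/-- `a ↦ (a - a 0)/s` -/
def tailL (k : Type u) [Field k] (e : ℕ) : A k (e + 1) →ₗ[k] A k e where
  toFun a := Fin.tail a
  map_add' a b := rfl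
  map_smul' r a := rfl

def padL (k : Type u) [Field k] (e e' : ℕ) : A k e →ₗ[k] A k e' where
  toFun a := pad a
  map_add' a b := by
    funext i
    simp only [pad, Pi.add_apply]
    split_ifs <;> simp
  map_smul' r a := by
    funext i
    simp only [pad, Pi.smul_apply, RingHom.id_apply]
    split_ifs <;> simp

@[simp] theorem consL_apply {e : ℕ} (c : A k e) : consL k e c = Fin.cons 0 c := rfl
@[simp] theorem tailL_apply {e : ℕ} (c : A k (e + 1)) : tailL k e c = Fin.tail c := rfl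
@[simp] theorem padL_apply {e e' : ℕ} (c : A k e) : padL k e e' c = pad c := rfl

theorem cons_tail_zero {e : ℕ} {a : A k (e + 1)} (h : a 0 = 0) : (Fin.cons 0 (Fin.tail a) : A k (e + 1)) = a := by
  conv_rhs => rw [← Fin.cons_self_tail a]
  rw [h]

/-- `pad (cons p c) = cons p (pad c)` -/
theorem pad_cons {e e' : ℕ} (h : e ≤ e') (p : Fin 5 → k) (c : A k e) :
    (pad (Fin.cons p c : A k (e + 1)) : A k (e' + 1)) = Fin.cons p (pad c) := by
  funext i
  refine Fin.cases ?_ (fun j => ?_) i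
  · simp [pad]
  · simp only [pad, Fin.cons_succ, Fin.val_succ]
    by_cases hj : (j : ℕ) < e + 1
    · have : (j : ℕ) + 1 < e + 1 + 1 := by omega
      rw [dif_pos hj, dif_pos this]
      exact Fin.cons_succ (α := fun _ => Fin 5 → k) p c ⟨j, hj⟩
    · have : ¬ (j : ℕ) + 1 < e + 1 + 1 := by omega
      rw [dif_neg hj, dif_neg this]

theorem ev_zero {e : ℕ} (a : A k e) : ev a 0 = a 0 := by
  simp only [ev]
  rw [Finset.sum_eq_single 0]
  · simp
  · intro i _ hi
    have : (i : ℕ) ≠ 0 := fun h => hi (Fin.ext h)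
    simp [this]
  · simp

theorem hd_zero {e : ℕ} (a : A k e) (s : k) : hd a 0 s = ev a s := by
  simp [hd, ev]

theorem ev_cons {e : ℕ} (p : Fin 5 → k) (c : A k e) (s : k) :
    ev (Fin.cons p c : A k (e + 1)) s = p + s • ev c s := by
  simp only [ev]
  rw [Fin.sum_univ_succ]
  simp only [Fin.cons_zero, Fin.cons_succ, Fin.val_zero, pow_zero, one_smul, Fin.val_succ]
  congr 1
  rw [Finset.smul_sum]
  refine Finset.sum_congr rfl fun i _ => ?_
  rw [smul_smul, pow_succ']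

theorem ev_pad {e e' : ℕ} (h : e ≤ e') (a : A k e) (s : k) : ev (pad a : A k e') s = ev a s := by
  induction e generalizing e' with
  | zero =>
    simp only [ev]
    rw [Finset.sum_eq_single 0]
    · simp [pad]
    · intro i _ hi
      have : (i : ℕ) ≠ 0 := fun h => hi (Fin.ext h)
      simp [pad, this]
    · simp
  | succ e ih =>
    obtain ⟨e', rfl⟩ : ∃ e'', e' = e'' + 1 := ⟨e' - 1, by omega⟩
    rw [← Fin.cons_self_tail a, pad_cons (by omega), ev_cons, ev_cons, ih (by omega)]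

end Lin

/-- a cubic form vanishing along `(1 + a s) x + (b s + s²) y` vanishes on the plane -/
theorem line_of_conic [Infinite k] [CharZero k] (hT : IsSym3 T) {x y : Fin 5 → k} {a b : k}
    (h : ∀ s : k, T ((1 + a * s) • x + (b * s + s ^ 2) • y) ((1 + a * s) • x + (b * s + s ^ 2) • y)
      ((1 + a * s) • x + (b * s + s ^ 2) • y) = 0) :
    T x x x = 0 ∧ T x x y = 0 ∧ T x y y = 0 ∧ T y y y = 0 := by
  have h3 : (3 : k) ≠ 0 := by norm_num
  have hc := coeffs_zero (n := 7) ![T x x x, 3 * a * T x x x + 3 * b * T x x y,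
    3 * a ^ 2 * T x x x + (3 + 6 * a * b) * T x x y + 3 * b ^ 2 * T x y y,
    a ^ 3 * T x x x + (6 * a + 3 * a ^ 2 * b) * T x x y + (6 * b + 3 * a * b ^ 2) * T x y y + b ^ 3 * T y y y,
    3 * a ^ 2 * T x x y + (3 + 6 * a * b) * T x y y + 3 * b ^ 2 * T y y y,
    3 * a * T x y y + 3 * b * T y y y, T y y y] (by
      intro s
      rw [Fin.sum_univ_seven]
      have := h s
      rw [hT.cube_smul_add_smul] at this
      simp only [Matrix.cons_val]
      simp
      linear_combination this)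
  have c0 := hc 0
  have c1 := hc 1
  have c2 := hc 2
  have c4 := hc 4
  have c5 := hc 5
  have c6 := hc 6
  simp only [Matrix.cons_val] at c0 c1 c2 c4 c5 c6
  rw [c0] at c1 c2
  rw [c6] at c4 c5
  have f1 : b * T x x y = 0 := by
    have h' : 3 * (b * T x x y) = 0 := by linear_combination c1
    exact (mul_eq_zero.1 h').resolve_left h3
  have f2 : a * T x y y = 0 := by
    have h' : 3 * (a * T x y y) = 0 := by linear_combination c5
    exact (mul_eq_zero.1 h').resolve_left h3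
  have e1 : T x x y = 0 := by
    rcases mul_eq_zero.1 f1 with hb | h0
    · have h' : 3 * T x x y = 0 := by
        rw [hb] at c2
        linear_combination c2
      exact (mul_eq_zero.1 h').resolve_left h3
    · exact h0
  refine ⟨c0, e1, ?_, c6⟩
  have h' : 3 * T x y y = 0 := by
    rw [e1] at c4
    linear_combination c4 - 6 * b * f2
  exact (mul_eq_zero.1 h').resolve_left h3

/-- the curve `p + s v + s² x` on the cubic with `⟨p, x⟩` not a line of the cubic is a parametrised conic -/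
theorem mem_con [Infinite k] [CharZero k] (hT : IsSym3 T) {p v x : Fin 5 → k}
    (hpx : LinearIndependent k ![x, p]) (hl : (p, x) ∉ FR T)
    (h : ∀ s : k, T (p + s • v + s ^ 2 • x) (p + s • v + s ^ 2 • x) (p + s • v + s ^ 2 • x) = 0)
    (hx : T x x x = 0) : (![p, v, x] : Fin 3 → Fin 5 → k) ∈ Con T := by
  have hpx' : LinearIndependent k ![p, x] := by
    have := LinearIndependent.pair_symm_iff.1 hpx
    exact this
  refine ⟨?_, ?_⟩
  · by_contra hdep
    have hv : v ∈ Submodule.span k {p, x} := by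
      by_contra hv
      apply hdep
      have h1 : LinearIndependent k ![v, p, x] := by
        refine linearIndependent_finCons.2 ⟨hpx', ?_⟩
        rwa [Matrix.range_cons, Matrix.range_cons, Matrix.range_empty, Set.union_empty, Set.singleton_union]
      have h2 : (![p, v, x] : Fin 3 → Fin 5 → k) = ![v, p, x] ∘ (Equiv.swap 0 1) := by
        funext i
        fin_cases i <;> rfl
      rw [h2]
      exact h1.comp _ (Equiv.injective _)
    obtain ⟨a, b, rfl⟩ := Submodule.mem_span_pair.1 hv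
    apply hl
    have := line_of_conic (T := T) hT (x := p) (y := x) (a := a) (b := b) (fun s => by
      have e : (1 + a * s) • p + (b * s + s ^ 2) • x = p + s • (a • p + b • x) + s ^ 2 • x := by module
      rw [e]
      exact h s)
    exact ⟨hpx', this⟩
  · intro s t
    by_cases hs : s = 0
    · subst hs
      have e : qpt ![p, v, x] 0 t = t ^ 2 • x := by
        simp [qpt]
      rw [e]
      simp [hx]
    · have e : qpt ![p, v, x] s t = s ^ 2 • (p + (t / s) • v + (t / s) ^ 2 • x) := by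
        simp only [qpt, Matrix.cons_val]
        rw [smul_add, smul_add, smul_smul, smul_smul]
        congr 2
        · congr 1
          field_simp
        · field_simp
      rw [e]
      have h' := h (t / s)
      generalize p + (t / s) • v + (t / s) ^ 2 • x = w at h'
      simp only [map_smul, LinearMap.smul_apply, h', smul_zero]

theorem pm_ev {e : ℕ} (a : A k e) : IsPolyMap k (fun s : k => ev a s) := by
  refine isPolyMap_pi.2 fun j => ?_
  have : (fun s : k => ev a s j) = fun s : k => ∑ i : Fin (e + 1), s ^ (i : ℕ) * a i j := by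
    funext s
    simp [ev, Finset.sum_apply]
  rw [this]
  exact pf_sum _ fun i _ => pf_mul (pf_pow (isPolyFun_linear' (LinearMap.id (M := k))) _) (isPolyFun_const _)

theorem tail_mem_Z [Infinite k] {e : ℕ} {b : A k (e + 1)} (hb : b ∈ Z T (e + 1)) (h0 : b 0 = 0) :
    (Fin.tail b : A k e) ∈ Z T e := by
  intro s
  by_contra hs
  have hp : IsPolyFun k (fun s : k => T (ev (Fin.tail b : A k e) s) (ev (Fin.tail b : A k e) s)
    (ev (Fin.tail b : A k e) s)) := pf_T (pm_ev _) (pm_ev _) (pm_ev _)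
  obtain ⟨t, -, ht1, ht2⟩ := (irr_univ (k := k) (V := k)).2 _ _ (isZOpen_basic hp)
    (isZOpen_basic (isPolyFun_linear' (LinearMap.id (M := k)))) ⟨s, trivial, hs⟩ ⟨1, trivial, one_ne_zero⟩
  apply ht1
  have h1 := hb t
  rw [← Fin.cons_self_tail b, h0, ev_cons, zero_add] at h1
  simp only [map_smul, LinearMap.smul_apply, smul_eq_mul] at h1
  simp only [Set.mem_ofPred_eq, LinearMap.id_coe, id_eq] at ht2
  rcases mul_eq_zero.1 h1 with h | h
  · exact absurd h ht2
  · rcases mul_eq_zero.1 h with h | h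
    · exact absurd h ht2
    · exact (mul_eq_zero.1 h).resolve_left ht2

/-- normalising the first and the last coefficient by reparametrisation -/
theorem exists_norm [IsAlgClosed k] (hN : Nodes T) {e : ℕ} {W : Set (A k (e + 2))} (hW : IsComp k (Z T (e + 2)) W) {β μ : k}
    (hβ : β ≠ 0) (hμ : μ ≠ 0) {p v x : Fin 5 → k}
    (h : (Fin.cons ((β ^ 2) • p) (pad (![v, μ • x] : A k 1)) : A k (e + 2)) ∈ W) :
    ∃ v', (pad (![p, v', x] : A k 2) : A k (e + 2)) ∈ W := by
  obtain ⟨r, hr⟩ := IsAlgClosed.exists_pow_nat_eq (β ^ 2 / μ) (n := 2) (by norm_num)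
  have h1 := hN.comp_scale hW (β ^ 2)⁻¹ r h
  refine ⟨((β ^ 2)⁻¹ * r) • v, ?_⟩
  have e1 : (![p, ((β ^ 2)⁻¹ * r) • v, x] : A k 2) = Fin.cons p (![((β ^ 2)⁻¹ * r) • v, x] : A k 1) := rfl
  rw [e1, pad_cons (by omega)]
  convert h1 using 1
  funext i
  refine Fin.cases ?_ (fun j => ?_) i
  · simp only [Fin.cons_zero, Fin.val_zero, pow_zero, mul_one]
    rw [smul_smul, inv_mul_cancel₀ (pow_ne_zero _ hβ), one_smul]
  · simp only [Fin.cons_succ, Fin.val_succ, pad]
    rcases j with ⟨_ | _ | j, hj⟩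
    · simp
    · simp only [Nat.reduceAdd, Fin.mk_one]
      rw [dif_pos (by norm_num), dif_pos (by norm_num)]
      change x = ((β ^ 2)⁻¹ * r ^ 2) • μ • x
      rw [smul_smul, hr]
      have : (β ^ 2)⁻¹ * (β ^ 2 / μ) * μ = 1 := by
        field_simp
      rw [this, one_smul]
    · rw [dif_neg (by simp), dif_neg (by simp), smul_zero]

section Main

variable [IsAlgClosed k] [CharZero k]

omit [CharZero k] in
/-- if no curve of `W` vanishes simply at zero, a component of the boundary is `X₀ × s C₁` for a component `C₁` of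
the curves of degree `≤ e` -/
theorem exists_bd_prod (hL : Tools k) (hN : Nodes T) (hT : IsSym3 T) (hsm : SmoothOn T ⊤) {e : ℕ}
    (hAe : DimLE k (Z T e) (2 * e + 4)) {W : Set (A k (e + 2))} (hW : IsComp k (Z T (e + 2)) W)
    (hno : ∀ b : A k (e + 1), (Fin.cons 0 b : A k (e + 2)) ∈ W → b 0 = 0) :
    ∃ C : Set (A k e), IsComp k (Z T e) C ∧ ∀ p ∈ X0 T, ∀ c ∈ C, (p, (Fin.cons 0 c : A k (e + 1))) ∈ bd W := by
  have hinf : Infinite k := IsAlgClosed.instInfinite
  have hWc : IsZOpen k Wᶜ := hL.isComp_closed (hN.isZOpen_compl_Z (e + 2)) hW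
  obtain ⟨a, ha, ha0⟩ := hN.comp_ne hW
  obtain ⟨G, hGs, hGi, hGc, hqG, hGd⟩ := hN.exists_bd hW.2.1 (hN.comp_dimGE hW) (hN.zero_mem_bd hW ha)
  have hG0 : ∀ q ∈ G, q.2 0 = 0 ∧ (Fin.tail q.2 : A k e) ∈ Z T e ∧ q.1 ∈ X0 T := by
    intro q hq
    have h1 : (Fin.cons ((0 : k) • q.1) q.2 : A k (e + 2)) ∈ W := hN.cons_mem_of_cl hWc (hGs hq)
    rw [zero_smul] at h1
    have h2 := hno _ h1
    obtain ⟨h3, h4⟩ := hN.bd_eqs hW.1 (hGs hq)
    exact ⟨h2, tail_mem_Z h3 h2, h4.1⟩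
  let tl : ((Fin 5 → k) × A k (e + 1)) →ₗ[k] A k e := (tailL k e) ∘ₗ LinearMap.snd k _ _
  have hH : Irr k (tl '' G) := hGi.image (isPolyMap_linear tl)
  have hHZ : tl '' G ⊆ Z T e := by
    rintro _ ⟨q, hq, rfl⟩
    exact (hG0 q hq).2.1
  obtain ⟨C, hC, hHC⟩ := hL.exists_comp (hN.isZOpen_compl_Z e) hH hHZ
  have hCc : IsZOpen k Cᶜ := hL.isComp_closed (hN.isZOpen_compl_Z e) hC
  have hX0c : IsZOpen k (X0 T)ᶜ := isZOpen_basic (pf_T isPolyMap_id isPolyMap_id isPolyMap_id)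
  let J : ((Fin 5 → k) × A k e) →ₗ[k] ((Fin 5 → k) × A k (e + 1)) := LinearMap.id.prodMap (consL k e)
  let P : Set ((Fin 5 → k) × A k e) := {p | p.1 ∈ X0 T ∧ p.2 ∈ C}
  have hPi : Irr k P := (hN.irr_X0).prod hC.2.1
  have hPc : IsZOpen k Pᶜ := by
    have : Pᶜ = (fun p : (Fin 5 → k) × A k e => p.1) ⁻¹' (X0 T)ᶜ ∪ (fun p : (Fin 5 → k) × A k e => p.2) ⁻¹' Cᶜ := by
      ext p
      simp only [P, Set.mem_compl_iff, Set.mem_ofPred_eq, Set.mem_union, Set.mem_preimage, not_and_or]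
    rw [this]
    exact zo_union (zo_preimage hX0c isPolyMap_fst) (zo_preimage hCc isPolyMap_snd)
  have hPd : DimLE k P (2 * e + 8) := by
    have h := hL.dimLE_of_fibres (k := k) (X := P) (O := Set.univ) hPc isZOpen_univ (m := 4) (r := 2 * e + 4)
      (hL.dimLE_mono (by rintro _ ⟨p, hp, rfl⟩; exact hp.1.1) (hN.dimLE_X0))
      (fun v => hL.dimLE_mono (fun w hw => hC.1 hw.1.2) hAe)
    rw [Set.inter_univ] at h
    have e1 : 4 + (2 * e + 4) = 2 * e + 8 := by omega
    rwa [e1] at h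
  have hGP : G ⊆ J '' P := by
    intro q hq
    refine ⟨(q.1, Fin.tail q.2), ⟨(hG0 q hq).2.2, hHC ⟨q, hq, rfl⟩⟩, ?_⟩
    exact Prod.ext rfl (cons_tail_zero (hG0 q hq).1)
  have hGeq : G = J '' P := hL.eq_of_dim (hPi.image (isPolyMap_linear J)) hGP hGc hGd
    (hL.dimLE_image hPd (isPolyMap_linear J))
  refine ⟨C, hC, fun p hp c hc => hGs ?_⟩
  rw [hGeq]
  exact ⟨(p, c), ⟨hp, hc⟩, rfl⟩

omit [CharZero k] in
/-- at a good point `x` a component contains a curve with value in `k^* x` at zero -/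
theorem exists_value (hL : Tools k) (hN : Nodes T) {e : ℕ} (hB : ∀ W, IsComp k (Z T e) W → ∀ x, GoodPt T x → Reach T x W) {C : Set (A k e)} (hC : IsComp k (Z T e) C) {x : Fin 5 → k}
    (hx : GoodPt T x) : ∃ c ∈ C, ∃ μ : k, μ ≠ 0 ∧ c 0 = μ • x := by
  classical
  have hinf : Infinite k := IsAlgClosed.instInfinite
  have hCc : IsZOpen k Cᶜ := hL.isComp_closed (hN.isZOpen_compl_Z e) hC
  obtain ⟨t, p, hc, hcl⟩ := hB C hC x hx
  have h1 : prodCurve x t ∈ C := by
    have h2 := hL.cl_image (φ := fun y : Y k e => y.1) isPolyMap_fst hcl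
    refine hL.cl_subset ?_ hCc h2
    rintro _ ⟨y, hy, rfl⟩
    exact hy.1
  obtain ⟨s, hs⟩ := (Finset.univ.image t).exists_notMem
  have h3 := hN.comp_translate hC s h1
  refine ⟨_, h3, ∏ j, (s - t j), ?_, ?_⟩
  · refine Finset.prod_ne_zero_iff.2 fun j _ h => hs ?_
    rw [Finset.mem_image]
    exact ⟨j, Finset.mem_univ _, (sub_eq_zero.1 h).symm⟩
  · have : hd (prodCurve x t) 0 s = (∏ j, (s - t j)) • x := by rw [hd_zero, hN.ev_prodCurve]
    exact this

omit [CharZero k] in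
/-- for good `x`, all `p` are connected to `x` by a conic in `W` -/
theorem exists_conic (hL : Tools k) (hN : Nodes T) (hT : IsSym3 T) (hsm : SmoothOn T ⊤) {e : ℕ}
    (hAe : DimLE k (Z T e) (2 * e + 4)) (hB : ∀ W, IsComp k (Z T e) W → ∀ x, GoodPt T x → Reach T x W) {W : Set (A k (e + 2))} (hW : IsComp k (Z T (e + 2)) W)
    (hno : ∀ b : A k (e + 1), (Fin.cons 0 b : A k (e + 2)) ∈ W → b 0 = 0) {p x : Fin 5 → k} (hp : p ∈ X0 T)
    (hx : GoodPt T x) : ∃ v, (pad (![p, v, x] : A k 2) : A k (e + 2)) ∈ W := by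
  have hinf : Infinite k := IsAlgClosed.instInfinite
  have hWc : IsZOpen k Wᶜ := hL.isComp_closed (hN.isZOpen_compl_Z (e + 2)) hW
  obtain ⟨C, hC, hCb⟩ := exists_bd_prod hL hN hT hsm hAe hW hno
  obtain ⟨c, hc, μ, hμ, hcx⟩ := exists_value hL hN hB hC hx
  obtain ⟨β, v, hβv, hcl⟩ := hN.exists_rescale hW (hCb p hp c hc)
  have h1 := hN.cons_mem_of_cl hWc hcl
  simp only at h1
  by_cases hβ : β = 0
  · exfalso
    subst hβ
    rw [zero_pow (by norm_num), zero_smul] at h1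
    have h2 := hno _ h1
    have h3 : v = 0 := by simpa [pad] using h2
    rcases hβv with h | h
    · exact h rfl
    · exact h h3
  · rw [hcx] at h1
    exact exists_norm hN hW hβ hμ h1

/-- if no curve of `W` vanishes simply at `0`, then `W` contains all conics -/
theorem con_subset (hL : Tools k) (hN : Nodes T) (hT : IsSym3 T) (hsm : SmoothOn T ⊤) {e : ℕ}
    (hAe : DimLE k (Z T e) (2 * e + 4)) (hA2 : DimLE k (Z T 2) (2 * 2 + 4)) (hB : ∀ W, IsComp k (Z T e) W → ∀ x, GoodPt T x → Reach T x W) {W : Set (A k (e + 2))}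
    (hW : IsComp k (Z T (e + 2)) W)
    (hno : ∀ b : A k (e + 1), (Fin.cons 0 b : A k (e + 2)) ∈ W → b 0 = 0) {γ : A k 2}
    (hγ : γ ∈ Cl k (K714.ConicIrr.Con T)) : (pad γ : A k (e + 2)) ∈ W := by
  have hinf : Infinite k := IsAlgClosed.instInfinite
  have hWc : IsZOpen k Wᶜ := hL.isComp_closed (hN.isZOpen_compl_Z (e + 2)) hW
  let S : Set (A k 2) := {γ | γ ∈ Cl k (Con T) ∧ (pad γ : A k (e + 2)) ∈ W}
  have hSc : IsZOpen k Sᶜ := by
    have : Sᶜ = (Cl k (Con T))ᶜ ∪ (padL k 2 (e + 2)) ⁻¹' Wᶜ := by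
      ext γ
      simp only [S, Set.mem_compl_iff, Set.mem_ofPred_eq, Set.mem_union, Set.mem_preimage, not_and_or, padL_apply]
    rw [this]
    exact zo_union (hL.isZOpen_compl_cl _) (zo_preimage hWc (isPolyMap_linear _))
  have hConZ : Con T ⊆ Z T 2 := by
    rintro c hc s
    have h := hc.2 1 s
    have e1 : qpt c 1 s = ev c s := by
      simp [qpt, ev, Fin.sum_univ_three]
    rwa [e1] at h
  have hle : DimLE k (Cl k (Con T)) 8 := by
    intro h
    exact hA2 (hL.dimGE_mono hConZ (hL.dimGE_cl.1 h))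
  -- the dimension of `S`
  obtain ⟨O₁, hO₁, ⟨x₀, hx₀, hx₀O⟩, hgood⟩ := hN.exists_good
  have hgx₀ := hgood x₀ hx₀O hx₀
  obtain ⟨O₂, hO₂, ⟨p₀, hp₀, hp₀O⟩, hoff⟩ := hN.exists_off_cone (y := x₀) hgx₀.1
  obtain ⟨hspan, hnl⟩ := hoff p₀ hp₀O hp₀
  let P : Set ((Fin 5 → k) × (Fin 5 → k)) := {q | q.1 ∈ X0 T ∧ q.2 ∈ X0 T}
  have hPi : Irr k P := (hN.irr_X0).prod (hN.irr_X0)
  have hPd : DimGE k P 8 := hL.dimGE_prod (hN.dimGE_X0) (hN.dimGE_X0)
  let O : Set ((Fin 5 → k) × (Fin 5 → k)) := {q | q.2 ∈ O₁} ∩ ({q | LinearIndependent k ![q.1, q.2]} ∩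
    ({q | T q.1 q.1 q.2 ≠ 0} ∪ {q | T q.1 q.2 q.2 ≠ 0}))
  have hO : IsZOpen k O := zo_inter (zo_preimage hO₁ isPolyMap_snd) (zo_inter isZOpen_indep
    (zo_union (isZOpen_basic (pf_T isPolyMap_fst isPolyMap_fst isPolyMap_snd))
      (isZOpen_basic (pf_T isPolyMap_fst isPolyMap_snd isPolyMap_snd))))
  have hlin : LinearIndependent k ![p₀, x₀] := by
    refine linearIndependent_finCons.2 ⟨?_, ?_⟩
    · exact linearIndependent_unique_iff.2 hgx₀.1
    · rwa [Matrix.range_cons, Matrix.range_empty, Set.union_empty]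
  have hmem : (P ∩ O).Nonempty := by
    refine ⟨(p₀, x₀), ⟨hp₀, hx₀⟩, hx₀O, hlin, ?_⟩
    by_contra hcon
    simp only [Set.mem_union, Set.mem_ofPred_eq, not_or, not_not] at hcon
    exact hnl ⟨hlin, hp₀, hcon.1, hcon.2, hx₀⟩
  have hd1 := hL.dimGE_inter_open hPi hO hmem hPd
  have hSd : DimGE k S 8 := by
    obtain ⟨φ, hφ, hφd⟩ := hd1
    have hm : IsPolyMap k (fun γ : A k 2 => (γ 0, γ 2)) := pm_prodMk
      (isPolyMap_linear (LinearMap.proj (R := k) (φ := fun _ : Fin 3 => Fin 5 → k) 0))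
      (isPolyMap_linear (LinearMap.proj (R := k) (φ := fun _ : Fin 3 => Fin 5 → k) 2))
    refine ⟨fun γ => φ (γ 0, γ 2), pm_comp hφ hm, fun U hU hUn => ?_⟩
    obtain ⟨⟨p, x⟩, ⟨⟨hp, hx⟩, hxO, hli, hnl⟩, hU'⟩ := hφd U hU hUn
    obtain ⟨v, hv⟩ := exists_conic hL hN hT hsm hAe hB hW hno hp (hgood x hxO hx)
    refine ⟨![p, v, x], ⟨hL.subset_cl _ ?_, hv⟩, hU'⟩
    refine mem_con hT (LinearIndependent.pair_symm_iff.1 hli) ?_ ?_ hx
    · rintro ⟨-, -, h1, h2, -⟩
      rcases hnl with h | h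
      · exact h h1
      · exact h h2
    · intro s
      have h := hW.1 hv s
      rw [ev_pad (by omega)] at h
      have e1 : ev (![p, v, x] : A k 2) s = p + s • v + s ^ 2 • x := by
        simp [ev, Fin.sum_univ_three]
      rwa [e1] at h
  have heq := hL.eq_of_dim (hL.irr_cl (con_irr hT hsm)) (fun γ hγ => hγ.1 : S ⊆ Cl k (Con T)) hSc hSd hle
  rw [← heq] at hγ
  exact hγ.2

theorem exists_simple (hL : Tools k) (hN : Nodes T) (hT : IsSym3 T) (hsm : SmoothOn T ⊤) {e : ℕ}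
    (hA : ∀ e' ≤ e + 1, DimLE k (Z T e') (2 * e' + 4))
    (hB : ∀ e' ≤ e, ∀ W, IsComp k (Z T e') W → ∀ x, GoodPt T x → Reach T x W) {W : Set (A k (e + 1))}
    (hW : IsComp k (Z T (e + 1)) W) : ∃ b : A k e, b 0 ≠ 0 ∧ (Fin.cons 0 b : A k (e + 1)) ∈ W := by
  have hinf : Infinite k := IsAlgClosed.instInfinite
  by_contra hcon
  push Not at hcon
  have hno : ∀ b : A k e, (Fin.cons 0 b : A k (e + 1)) ∈ W → b 0 = 0 := by
    intro b hb
    by_contra h0
    exact hcon b h0 hb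
  have hWc : IsZOpen k Wᶜ := hL.isComp_closed (hN.isZOpen_compl_Z (e + 1)) hW
  cases e with
  | zero =>
    obtain ⟨a, ha, ha0⟩ := hN.comp_ne hW
    obtain ⟨G, hGs, hGi, hGc, hqG, hGd⟩ := hN.exists_bd hW.2.1 (hN.comp_dimGE hW) (hN.zero_mem_bd hW ha)
    let L : Submodule k ((Fin 5 → k) × A k 0) := LinearMap.range (LinearMap.inl k (Fin 5 → k) (A k 0))
    have hfr : finrank k ↥L = 5 := by
      rw [LinearMap.finrank_range_of_inj LinearMap.inl_injective]
      simp
    have hGL : G ⊆ (L : Set ((Fin 5 → k) × A k 0)) := by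
      intro q hq
      have h1 : (Fin.cons ((0 : k) • q.1) q.2 : A k (0 + 1)) ∈ W := hN.cons_mem_of_cl hWc (hGs hq)
      rw [zero_smul] at h1
      have h2 := hno _ h1
      refine ⟨q.1, Prod.ext rfl ?_⟩
      funext i
      have hi : i = 0 := Fin.ext (by have := i.2; omega)
      rw [hi]
      exact h2.symm
    have h := hL.dimLE_submodule L
    rw [hfr] at h
    exact h (hL.dimGE_mono hGL hGd)
  | succ e =>
    obtain ⟨b, hb0, hb⟩ := hN.exists_con_limit
    have h1 := con_subset hL hN hT hsm (hA e (by omega)) (hA 2 (by omega)) (hB e (by omega)) hW hno hb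
    rw [pad_cons (by omega)] at h1
    have h2 := hno _ h1
    apply hb0
    simpa [pad] using h2

end Main

end K119.CC7
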