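import Groth.Agent.Fano.K239.HonDef2
import Groth.Agent.Fano.K188.LinP1

/-!
# Change of coordinates of a datum on the projective line (node HM of S16940)

* `exists_local`, `givenBy_of_local`, `givenBy_unit`: local coordinates of morphisms to projective space;
* `exists_ends`, `aff_end`: automorphisms of the projective line given by matrices, the images of the sections `[1 : x]`;
* `aff_pmap`, `inf_pmap`, `std3_pmap`: base change of the standard sections;
* `vl_eq`, `lc_value`: values of the sections of `O(e)`;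
* `exists_toQO`: morphisms to the space of tuples;
* `exists_datum` (any base, polynomial identity over all rings), `exists_datum_of_matrix` (over an infinite field).
-/

set_option autoImplicit false

universe u

open CategoryTheory CategoryTheory.Limits AlgebraicGeometry TopologicalSpace

namespace K119.HonM

open K390.PnSec Groth.Agent.Fdesc.LocGen Groth.Agent.Dix.ProjProper
open Groth.Agent.Ega2.H295.PnUniq Groth.Agent.Ega2.H295.PnCoord
open K188.LineDef K188.LinFun K188.LinP1 K745.ConDef K505.KonDef K239.HonDef W4swstmapratcurves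

attribute [local instance] MvPolynomial.gradedAlgebra

section Local

variable {X Y T : Scheme.{u}} {n : ℕ} {R : Type u} [CommRing R]

/-- Sections of an invertible module with covering generating loci are functions near each point. -/
theorem exists_local_sec {M : X.Modules} (hinv : PicF.IsInvertible M) {s : Fin (n + 1) → Γ(M, ⊤)}
    (h0 : ⨆ i, CohB1.genLocus M (homOf (s i)) = ⊤) (x : X) :
    ∃ (U : X.Opens) (_ : x ∈ U) (f : Fin (n + 1) → Γ(U.toScheme, ⊤))
      (e : (Scheme.Modules.pullback U.ι).obj M ≅ Coh.structureModule U.toScheme),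
      ∀ a, e.hom.app ⊤ (pullTop U.ι (s a)) = ofFun (f a) := by
  have hx : x ∈ ⨆ i, CohB1.genLocus M (homOf (s i)) := by rw [h0]; trivial
  obtain ⟨i, hi⟩ := Opens.mem_iSup.1 hx
  set U := CohB1.genLocus M (homOf (s i)) with hU
  have hg : IsGen (pullTop U.ι (s i)) := by
    have h1 := genLocus_pullTop U.ι hinv (s i)
    have h2 : (⊤ : U.toScheme.Opens) ≤ CohB1.genLocus _ (homOf (pullTop U.ι (s i))) := by
      rw [h1]
      intro y _
      exact y.2
    rw [le_genLocus_iff, sec_homOf, res_refl] at h2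
    exact h2
  obtain ⟨e, -⟩ := exists_iso_of_isGen hg
  exact ⟨U, hi, fun a => ofFun.symm (e.hom.app ⊤ (pullTop U.ι (s a))), e, fun a => (ofFun.apply_symm_apply _).symm⟩

/-- A morphism to projective space has coordinates near each point. -/
theorem exists_local (ρ : X ⟶ CohB1.ProjSpace n R) (x : X) :
    ∃ (U : X.Opens) (_ : x ∈ U) (f : Fin (n + 1) → Γ(U.toScheme, ⊤)),
      GivenBy (U.ι ≫ ρ) (Coh.structureModule U.toScheme) (fun a => ofFun (f a)) := by
  obtain ⟨U, hU, f, e, he⟩ := exists_local_sec (isInvertible_pullback ρ (isInvertible_O1 n R)) (GivenBy.refl ρ).iSup_genLocus x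
  refine ⟨U, hU, f, ?_⟩
  have h1 := ((GivenBy.refl ρ).comp U.ι).of_iso e
  have h2 : (fun a => e.hom.app ⊤ (pullTop U.ι (tsec ρ a))) = fun a => ofFun (f a) := funext he
  exact h2 ▸ h1

/-- A morphism to projective space is given by the sections `s` if this is so locally. -/
theorem givenBy_of_local {ρ : X ⟶ CohB1.ProjSpace n R} {M : X.Modules} (hM : PicF.IsInvertible M)
    {s : Fin (n + 1) → Γ(M, ⊤)}
    (h : ∀ x : X, ∃ (U : X.Opens) (_ : x ∈ U) (f : Fin (n + 1) → Γ(U.toScheme, ⊤))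
      (τ : (Scheme.Modules.pullback U.ι).obj M ≅ Coh.structureModule U.toScheme),
      (∀ a, τ.hom.app ⊤ (pullTop U.ι (s a)) = ofFun (f a)) ∧
      GivenBy (U.ι ≫ ρ) (Coh.structureModule U.toScheme) (fun a => ofFun (f a))) : GivenBy ρ M s := by
  choose U hU f τ hτ hg using h
  have hcov : ⨆ a, CohB1.genLocus M (homOf (s a)) = ⊤ := by
    rw [eq_top_iff]
    intro x _
    have h1 := (hg x).iSup_genLocus
    have h2 : (⟨x, hU x⟩ : (U x).toScheme) ∈
        ⨆ a, CohB1.genLocus (Coh.structureModule (U x).toScheme) (homOf (ofFun (f x a))) := by rw [h1]; trivial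
    obtain ⟨a, ha⟩ := Opens.mem_iSup.1 h2
    refine Opens.mem_iSup.2 ⟨a, ?_⟩
    rw [← hτ x a, genLocus_app, genLocus_pullTop _ hM] at ha
    exact ha
  obtain ⟨ρ', hρ', hg'⟩ := exists_givenBy (ρ ≫ CohB1.ProjSpace.toSpec n R) s hcov
  have heq : ρ' = ρ := by
    refine (Scheme.openCoverOfIsOpenCover X U ?_).hom_ext _ _ fun x => ?_
    · rw [IsOpenCover, eq_top_iff]
      intro x _
      exact Opens.mem_iSup.2 ⟨x, hU x⟩
    · change (U x).ι ≫ ρ' = (U x).ι ≫ ρ
      have h1 := (hg'.comp (U x).ι).of_iso (τ x)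
      have h2 : (fun a => (τ x).hom.app ⊤ (pullTop (U x).ι (s a))) = fun a => ofFun (f x a) := funext (hτ x)
      rw [h2] at h1
      refine h1.unique (hg x) ?_
      rw [Category.assoc, Category.assoc, hρ']
  exact heq ▸ hg'

/-- Multiplying the coordinates with a unit. -/
theorem givenBy_unit {ρ : X ⟶ CohB1.ProjSpace n R} {w : Γ(X, ⊤)} (hw : IsUnit w) {f : Fin (n + 1) → Γ(X, ⊤)}
    (h : GivenBy ρ (Coh.structureModule X) (fun a => ofFun (w * f a))) :
    GivenBy ρ (Coh.structureModule X) (fun a => ofFun (f a)) := by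
  have hgen : IsGen (ofFun w : Γ(Coh.structureModule X, ⊤)) := by
    rw [ofFun_eq_smul]
    exact (isGen_one ⊤).unit_smul hw
  obtain ⟨e, he⟩ := exists_iso_of_isGen hgen
  have h1 := h.of_iso e
  have h2 : (fun a => e.hom.app ⊤ (ofFun (w * f a))) = fun a => ofFun (f a) := by
    funext a
    have h3 : (ofFun (w * f a) : Γ(Coh.structureModule X, ⊤)) = f a • ofFun w := by
      rw [ofFun_eq_smul, ofFun_eq_smul, smul_smul, mul_comm]
    have h5 : ∀ (g : Γ(X, ⊤)) (s : Γ(Coh.structureModule X, ⊤)),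
      e.hom.app ⊤ (g • s) = g • e.hom.app ⊤ s := fun g s => Scheme.Modules.Hom.app_smul e.hom g s
    rw [h3, h5, he, ← ofFun_eq_smul]
  rw [h2] at h1
  exact h1

end Local

section Ends

variable {T T' : Scheme.{u}}

/-- An invertible matrix gives an automorphism of the projective line. -/
theorem exists_ends {a b c d' δ : Γ(T, ⊤)} (hδ : δ * (a * d' - b * c) = 1) :
    ∃ γ γ' : P1 T ⟶ P1 T, γ ≫ pr T = pr T ∧ γ' ≫ pr T = pr T ∧ γ ≫ γ' = 𝟙 _ ∧ γ' ≫ γ = 𝟙 _ ∧
      GivenBy (γ ≫ toZ 1 T) (N T) (lsec (![a, c] : Fin (1 + 1) → Γ(T, ⊤)) ![b, d']) ∧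
      GivenBy (γ' ≫ toZ 1 T) (N T) (lsec (![δ * d', -(δ * c)] : Fin (1 + 1) → Γ(T, ⊤)) ![-(δ * b), δ * a]) := by
  have hu : IsUnit (a * d' - b * c) := IsUnit.of_mul_eq_one_right δ hδ
  have hu' : IsUnit δ := IsUnit.of_mul_eq_one _ hδ
  obtain ⟨γ, hγ, hg⟩ := exists_end (T := T) (v := ![a, c]) (c := ![b, d']) (by
    change IsUnit (a * d' - c * b)
    rw [mul_comm c b]
    exact hu)
  obtain ⟨γ', hγ', hg'⟩ := exists_end (T := T) (v := ![δ * d', -(δ * c)]) (c := ![-(δ * b), δ * a]) (by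
    change IsUnit (δ * d' * (δ * a) - -(δ * c) * -(δ * b))
    rw [show δ * d' * (δ * a) - -(δ * c) * -(δ * b) = δ by linear_combination δ * hδ]
    exact hu')
  refine ⟨γ, γ', hγ, hγ', ?_, ?_, hg, hg'⟩
  · refine hom_ext_over ?_ ?_
    · have h1 := givenBy_comp_end hγ hg hg'
      have h2 : (fun i => (![δ * d', -(δ * c)] : Fin (1 + 1) → Γ(T, ⊤)) i * (![a, c] : Fin (1 + 1) → Γ(T, ⊤)) 0 +
          (![-(δ * b), δ * a] : Fin (1 + 1) → Γ(T, ⊤)) i * (![a, c] : Fin (1 + 1) → Γ(T, ⊤)) 1) =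
          (![1, 0] : Fin (1 + 1) → Γ(T, ⊤)) := by
        funext i
        fin_cases i
        · change δ * d' * a + -(δ * b) * c = 1
          linear_combination hδ
        · change -(δ * c) * a + δ * a * c = 0
          ring
      have h3 : (fun i => (![δ * d', -(δ * c)] : Fin (1 + 1) → Γ(T, ⊤)) i * (![b, d'] : Fin (1 + 1) → Γ(T, ⊤)) 0 +
          (![-(δ * b), δ * a] : Fin (1 + 1) → Γ(T, ⊤)) i * (![b, d'] : Fin (1 + 1) → Γ(T, ⊤)) 1) =
          (![0, 1] : Fin (1 + 1) → Γ(T, ⊤)) := by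
        funext i
        fin_cases i
        · change δ * d' * b + -(δ * b) * d' = 0
          ring
        · change -(δ * c) * b + δ * a * d' = 1
          linear_combination hδ
      rw [h2, h3] at h1
      rw [Category.assoc, Category.id_comp]
      exact h1.unique' givenBy_id
    · rw [Category.assoc, hγ', hγ, Category.id_comp]
  · refine hom_ext_over ?_ ?_
    · have h1 := givenBy_comp_end hγ' hg' hg
      have h2 : (fun i => (![a, c] : Fin (1 + 1) → Γ(T, ⊤)) i * (![δ * d', -(δ * c)] : Fin (1 + 1) → Γ(T, ⊤)) 0 +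
          (![b, d'] : Fin (1 + 1) → Γ(T, ⊤)) i * (![δ * d', -(δ * c)] : Fin (1 + 1) → Γ(T, ⊤)) 1) =
          (![1, 0] : Fin (1 + 1) → Γ(T, ⊤)) := by
        funext i
        fin_cases i
        · change a * (δ * d') + b * -(δ * c) = 1
          linear_combination hδ
        · change c * (δ * d') + d' * -(δ * c) = 0
          ring
      have h3 : (fun i => (![a, c] : Fin (1 + 1) → Γ(T, ⊤)) i * (![-(δ * b), δ * a] : Fin (1 + 1) → Γ(T, ⊤)) 0 +
          (![b, d'] : Fin (1 + 1) → Γ(T, ⊤)) i * (![-(δ * b), δ * a] : Fin (1 + 1) → Γ(T, ⊤)) 1) =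
          (![0, 1] : Fin (1 + 1) → Γ(T, ⊤)) := by
        funext i
        fin_cases i
        · change a * -(δ * b) + b * (δ * a) = 0
          ring
        · change c * -(δ * b) + d' * (δ * a) = 1
          linear_combination hδ
      rw [h2, h3] at h1
      rw [Category.assoc, Category.id_comp]
      exact h1.unique' givenBy_id
    · rw [Category.assoc, hγ, hγ', Category.id_comp]

theorem appTop_id (z : Γ(T, ⊤)) : (𝟙 T : T ⟶ T).appTop z = z := by
  rw [Scheme.Hom.id_appTop]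
  rfl

theorem ext_coord {s s' : T' ⟶ P1 T} {x : Fin (1 + 1) → Γ(T', ⊤)} (h1 : s ≫ pr T = s' ≫ pr T)
    (h : GivenBy (s ≫ toZ 1 T) (Coh.structureModule T') (fun a => ofFun (x a)))
    (h' : GivenBy (s' ≫ toZ 1 T) (Coh.structureModule T') (fun a => ofFun (x a))) : s = s' :=
  hom_ext_over (h.unique' h') h1

theorem aff_pmap (g : T' ⟶ T) (b : Γ(T, ⊤)) : aff (g.appTop b) ≫ pmap g = g ≫ aff b := by
  refine ext_coord (x := ![1, g.appTop b]) ?_ ?_ ?_
  · rw [Category.assoc, pmap_pr, reassoc_of% aff_pr, Category.assoc, aff_pr, Category.comp_id]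
  · rw [Category.assoc, pmap_toZ]
    exact givenBy_aff _
  · have h1 := givenBy_ofFun_comp (givenBy_aff b) g
    have h2 : (fun a => (ofFun (g.appTop ((![1, b] : Fin 2 → Γ(T, ⊤)) a)) : Γ(Coh.structureModule T', ⊤))) =
        fun a => ofFun ((![1, g.appTop b] : Fin 2 → Γ(T', ⊤)) a) := by
      funext a
      fin_cases a
      · exact congrArg ofFun (map_one _)
      · rfl
    rw [Category.assoc]
    exact h2 ▸ h1

theorem inf_pmap (g : T' ⟶ T) : inf T' ≫ pmap g = g ≫ inf T := by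
  refine ext_coord (x := ![0, 1]) ?_ ?_ ?_
  · rw [Category.assoc, pmap_pr, reassoc_of% inf_pr, Category.assoc, inf_pr, Category.comp_id]
  · rw [Category.assoc, pmap_toZ]
    exact givenBy_inf
  · have h1 := givenBy_ofFun_comp (givenBy_inf (T := T)) g
    have h2 : (fun a => (ofFun (g.appTop ((![0, 1] : Fin 2 → Γ(T, ⊤)) a)) : Γ(Coh.structureModule T', ⊤))) =
        fun a => ofFun ((![0, 1] : Fin 2 → Γ(T', ⊤)) a) := by
      funext a
      fin_cases a
      · exact congrArg ofFun (map_zero _)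
      · exact congrArg ofFun (map_one _)
    rw [Category.assoc]
    exact h2 ▸ h1

theorem std3_pmap (g : T' ⟶ T) (i : Fin 3) : std3 T' i ≫ pmap g = g ≫ std3 T i := by
  fin_cases i
  · have h := aff_pmap g 0
    rw [map_zero] at h
    exact h
  · have h := aff_pmap g 1
    rw [map_one] at h
    exact h
  · exact inf_pmap g

/-- The image of the section `[1 : x]` under an endomorphism. -/
theorem aff_end {a b c d' x y : Γ(T, ⊤)} {γ : P1 T ⟶ P1 T} (hγ : γ ≫ pr T = pr T)
    (hg : GivenBy (γ ≫ toZ 1 T) (N T) (lsec (![a, c] : Fin (1 + 1) → Γ(T, ⊤)) ![b, d']))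
    (hu : IsUnit (a + b * x)) (hx : y * (a + b * x) = c + d' * x) : aff x ≫ γ = aff y := by
  refine ext_coord (x := ![1, y]) ?_ ?_ (givenBy_aff y)
  · rw [Category.assoc, hγ, aff_pr, aff_pr]
  · have h1 := givenBy_comp_lsec' (givenBy_aff x) hg
    rw [aff_pr] at h1
    refine givenBy_unit hu ?_
    have h2 : (fun i => (ofFun ((𝟙 T : T ⟶ T).appTop ((![a, c] : Fin (1 + 1) → Γ(T, ⊤)) i) *
        (![1, x] : Fin 2 → Γ(T, ⊤)) 0 + (𝟙 T : T ⟶ T).appTop ((![b, d'] : Fin (1 + 1) → Γ(T, ⊤)) i) *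
        (![1, x] : Fin 2 → Γ(T, ⊤)) 1) : Γ(Coh.structureModule T, ⊤))) =
        fun i => ofFun ((a + b * x) * (![1, y] : Fin (1 + 1) → Γ(T, ⊤)) i) := by
      funext i
      rw [appTop_id, appTop_id]
      fin_cases i
      · refine congrArg ofFun ?_
        change a * 1 + b * x = (a + b * x) * 1
        ring
      · refine congrArg ofFun ?_
        change c * 1 + d' * x = (a + b * x) * y
        rw [mul_comm _ y, hx]
        ring
    rw [Category.assoc]
    exact h2 ▸ h1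

end Ends

section Values

variable {k : Type u} [Field k] {n d r e : ℕ} {G : LefPen.Form n k d}

/-- The value `Σ_j φ_{l,j} s^(e-j) t^j`. -/
def vl {A : Type u} [CommRing A] (φ : Fin (n + 1) → Fin (e + 1) → A) (l : Fin (n + 1)) (s t : A) : A :=
  ∑ j, φ l j * (s ^ (e - (j : ℕ)) * t ^ (j : ℕ))

/-- A polynomial identity over an infinite domain. -/
theorem vl_eq {A B : Type u} [CommRing A] [CommRing B] [IsDomain A] [Infinite A] {φ ψ : Fin (n + 1) → Fin (e + 1) → A}
    {a b c d' : A} (h : ∀ l s t, vl φ l s t = vl ψ l (a * s + b * t) (c * s + d' * t)) (ρ : A →+* B) (l : Fin (n + 1)) (s t : B) :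
    vl (fun l j => ρ (φ l j)) l s t = vl (fun l j => ρ (ψ l j)) l (ρ a * s + ρ b * t) (ρ c * s + ρ d' * t) := by
  have h1 : (∑ j : Fin (e + 1), MvPolynomial.C (φ l j) * ((MvPolynomial.X 0 : MvPolynomial (Fin 2) A) ^ (e - (j : ℕ)) *
      MvPolynomial.X 1 ^ (j : ℕ))) =
      ∑ j : Fin (e + 1), MvPolynomial.C (ψ l j) *
        ((MvPolynomial.C a * MvPolynomial.X 0 + MvPolynomial.C b * MvPolynomial.X 1 : MvPolynomial (Fin 2) A) ^ (e - (j : ℕ)) *
        (MvPolynomial.C c * MvPolynomial.X 0 + MvPolynomial.C d' * MvPolynomial.X 1) ^ (j : ℕ)) := by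
    refine MvPolynomial.funext fun x => ?_
    have h2 := h l (x 0) (x 1)
    simp only [vl] at h2
    simp only [map_sum, map_mul, map_pow, map_add, MvPolynomial.eval_C, MvPolynomial.eval_X]
    exact h2
  have h2 := congrArg (MvPolynomial.eval₂Hom ρ ![s, t]) h1
  simp only [map_sum, map_mul, map_pow, map_add, MvPolynomial.coe_eval₂Hom, MvPolynomial.eval₂_C, MvPolynomial.eval₂_X,
    Matrix.cons_val_zero, Matrix.cons_val_one] at h2
  exact h2

/-- The values of the sections of `O(e)`. -/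
theorem lc_value {U T C V : Scheme.{u}} {q : U ⟶ Spec (CommRingCat.of k)} (o : Oe G q e) (j : V ⟶ C) (h : C ⟶ P1 U)
    (f : C ⟶ T) (x : Fin 2 → Γ(V, ⊤))
    (hx : GivenBy (j ≫ h ≫ toZ 1 U) (Coh.structureModule V) (fun a => ofFun (x a)))
    (φ : Fin (n + 1) → Fin (e + 1) → Γ(T, ⊤)) :
    ∃ τ : (Scheme.Modules.pullback j).obj ((Scheme.Modules.pullback h).obj o.L) ≅ Coh.structureModule V,
      ∀ l, τ.hom.app ⊤ (pullTop j (lc f (fun i => pullTop h (o.ε i)) φ l)) =
        ofFun (vl (fun l i => (j ≫ f).appTop (φ l i)) l (x 0) (x 1)) := by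
  obtain ⟨τ, hτ⟩ := o.val (j ≫ h) x (by rw [Category.assoc]; exact hx)
  refine ⟨(Scheme.Modules.pullbackComp j h).app o.L ≪≫ τ, fun l => ?_⟩
  have h1 : ∀ i, ((Scheme.Modules.pullbackComp j h).hom.app o.L).app ⊤ (pullTop j (pullTop h (o.ε i))) =
      pullTop (j ≫ h) (o.ε i) := fun i => by
    have h2 : ((Scheme.Modules.pullbackComp j h).inv.app o.L).app ⊤ (pullTop (j ≫ h) (o.ε i)) =
      pullTop j (pullTop h (o.ε i)) := pullSec_comp j h (o.ε i)
    rw [← h2]
    exact congr(($((Scheme.Modules.pullbackComp j h).inv_hom_id_app o.L)).app ⊤ (pullTop (j ≫ h) (o.ε i)))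
  have h3 : pullTop j (lc f (fun i => pullTop h (o.ε i)) φ l) =
      ∑ i, (j.appTop (f.appTop (φ l i))) • pullTop j (pullTop h (o.ε i)) := pullTop_sum_smul j _ _
  have h4 : (((Scheme.Modules.pullbackComp j h).app o.L ≪≫ τ).hom).app ⊤
      (∑ i, (j.appTop (f.appTop (φ l i))) • pullTop j (pullTop h (o.ε i))) =
      ∑ i, (j.appTop (f.appTop (φ l i))) •
        (((Scheme.Modules.pullbackComp j h).app o.L ≪≫ τ).hom).app ⊤ (pullTop j (pullTop h (o.ε i))) :=
    app_sum_smul _ _ _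
  rw [h3]
  refine h4.trans ?_
  simp only [vl]
  rw [map_sum]
  refine Finset.sum_congr rfl fun i _ => ?_
  have h5 : (((Scheme.Modules.pullbackComp j h).app o.L ≪≫ τ).hom).app ⊤ (pullTop j (pullTop h (o.ε i))) =
      τ.hom.app ⊤ (pullTop (j ≫ h) (o.ε i)) := congrArg (τ.hom.app ⊤) (h1 i)
  rw [h5, hτ, Scheme.Hom.comp_appTop, ofFun_eq_smul, ofFun_eq_smul, smul_smul]
  rfl

end Values

section Points

variable {k : Type u} [Field k] {r : ℕ}

/-- A tuple of distinct functions different from `0` and `1` gives a morphism to `QO k r`. -/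
theorem exists_toQO (T : Over (Spec (CommRingCat.of k))) (b : Fin r → Γ(T.left, ⊤)) (h0 : ∀ i, IsUnit (b i))
    (h1 : ∀ i, IsUnit (b i - 1)) (h : ∀ i j, i ≠ j → IsUnit (b i - b j)) :
    ∃ g : T ⟶ QO k r, ∀ i, g.left.appTop (xF k r i) = b i := by
  let ev : MvPolynomial (Fin r) k →+* Γ(T.left, ⊤) := MvPolynomial.eval₂Hom (kmap T.hom) b
  have hu : IsUnit (ev (disc k r)) := by
    have h2 : ev (disc k r) = (∏ i, b i * (b i - 1)) *
        ∏ p ∈ (Finset.univ : Finset (Fin r × Fin r)).filter (fun p => p.1 ≠ p.2), (b p.1 - b p.2) := by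
      simp [ev, disc]
    rw [h2]
    refine IsUnit.mul ?_ ?_
    · exact IsUnit.prod_univ_iff.2 fun i => (h0 i).mul (h1 i)
    · exact IsUnit.prod_iff.2 fun p hp => h _ _ (Finset.mem_filter.1 hp).2
  let ρ : QR k r →+* Γ(T.left, ⊤) := IsLocalization.Away.lift (disc k r) hu
  have hρ : ∀ p, ρ (algebraMap (MvPolynomial (Fin r) k) (QR k r) p) = ev p := fun p =>
    IsLocalization.Away.lift_eq (disc k r) hu p
  let gl : T.left ⟶ Spec (CommRingCat.of (QR k r)) := T.left.toSpecΓ ≫ Spec.map (CommRingCat.ofHom ρ)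
  have hgl : gl.appTop = (Scheme.ΓSpecIso (CommRingCat.of (QR k r))).hom ≫ CommRingCat.ofHom ρ := by
    rw [Scheme.Hom.comp_appTop, Scheme.toSpecΓ_appTop, Scheme.ΓSpecIso_naturality]
  have hover : gl ≫ (QO k r).hom = T.hom := by
    refine ext_of_isAffine ?_
    have h2 : CommRingCat.ofHom (algebraMap k (QR k r)) ≫ CommRingCat.ofHom ρ = CommRingCat.ofHom (kmap T.hom) := by
      refine CommRingCat.hom_ext (RingHom.ext fun z => ?_)
      change ρ (algebraMap k (QR k r) z) = kmap T.hom z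
      rw [IsScalarTower.algebraMap_apply k (MvPolynomial (Fin r) k) (QR k r), hρ]
      exact MvPolynomial.eval₂_C _ _ _
    have h3 : CommRingCat.ofHom (kmap T.hom) = (Scheme.ΓSpecIso (CommRingCat.of k)).inv ≫ T.hom.appTop := rfl
    rw [Scheme.Hom.comp_appTop, hgl]
    change (Spec.map (CommRingCat.ofHom (algebraMap k (QR k r)))).appTop ≫ _ = _
    rw [Scheme.ΓSpecIso_naturality_assoc, h2, h3, Iso.hom_inv_id_assoc]
  refine ⟨Over.homMk gl hover, fun i => ?_⟩
  change gl.appTop (xF k r i) = b i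
  rw [hgl]
  change ρ ((Scheme.ΓSpecIso (CommRingCat.of (QR k r))).hom ((Scheme.ΓSpecIso (CommRingCat.of (QR k r))).inv (xU k r i))) = b i
  have h4 : (Scheme.ΓSpecIso (CommRingCat.of (QR k r))).hom ((Scheme.ΓSpecIso (CommRingCat.of (QR k r))).inv (xU k r i)) = xU k r i :=
    congr($((Scheme.ΓSpecIso (CommRingCat.of (QR k r))).inv_hom_id) (xU k r i))
  rw [h4, xU, hρ]
  exact MvPolynomial.eval₂_X _ _ _

end Points

section Main

variable {k : Type u} [Field k] {n d r e : ℕ} {G : LefPen.Form n k d}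
  {hi : IsPre (B0 k r)} {hp : ProdB0 k r} (o : Oe G (QO k r).hom e) (ho : OeStab o)

/-- The coordinates of the marked points in a datum. -/
noncomputable def xAt {Y : Fam G r} (D : Datum (l0 (hi := hi) (hp := hp) o ho) Y) (i : Fin r) : Γ(Y.base.left, ⊤) :=
  D.h.base.left.appTop (xF k r i)

/-- Change of coordinates, over any base. -/
theorem exists_datum (A : Fam G r) (D : Datum (l0 (hi := hi) (hp := hp) o ho) A)
    (a b c d' : Γ(A.base.left, ⊤)) (hdet : IsUnit (a * d' - b * c)) (x : Fin r → Γ(A.base.left, ⊤))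
    (hx : ∀ i, xAt o ho D i * (a + b * x i) = c + d' * x i)
    (h0 : ∀ i, IsUnit (x i)) (h1 : ∀ i, IsUnit (x i - 1)) (h2 : ∀ i j, i ≠ j → IsUnit (x i - x j))
    (hu : ∀ i, IsUnit (a + b * x i))
    (φ : Fin (n + 1) → Fin (e + 1) → Γ(A.base.left, ⊤))
    (hφ : ∀ {B : Type u} [CommRing B] (ρ : Γ(A.base.left, ⊤) →+* B) (l : Fin (n + 1)) (s t : B),
      vl (fun l j => ρ (φ l j)) l s t = vl (fun l j => ρ (D.φ l j)) l (ρ a * s + ρ b * t) (ρ c * s + ρ d' * t)) :
    ∃ D' : Datum (l0 (hi := hi) (hp := hp) o ho) A, (∀ i, xAt o ho D' i = x i) ∧ ∀ l j, D'.φ l j = φ l j := by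
  obtain ⟨g, hg⟩ := exists_toQO A.base x h0 h1 h2
  obtain ⟨δ, hδ⟩ : ∃ δ, δ * (a * d' - b * c) = 1 := ⟨_, hdet.val_inv_mul⟩
  obtain ⟨γ, γ', hγ, hγ', e1, e2, hG, hG'⟩ := exists_ends hδ
  let T : Scheme.{u} := A.base.left
  let U : Scheme.{u} := (QO k r).left
  let u₀ : T ⟶ U := D.h.base.left
  let u' : T ⟶ U := g.left
  let top : A.C ⟶ P1 U := D.h.top
  have cart : IsPullback top A.f (pr U) u₀ := D.h.cart
  let κ : A.C ≅ P1 T := IsPullback.isoIsPullback _ _ cart (isPullback_pmap u₀)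
  have hκ : κ.hom ≫ pmap u₀ = top := IsPullback.isoIsPullback_hom_fst _ _ cart (isPullback_pmap u₀)
  have hκ' : κ.hom ≫ pr T = A.f := IsPullback.isoIsPullback_hom_snd _ _ cart (isPullback_pmap u₀)
  have hκi : κ.inv ≫ A.f = pr T := by rw [← hκ', Iso.inv_hom_id_assoc]
  let top' : A.C ⟶ P1 U := κ.hom ≫ γ' ≫ pmap u'
  have cart' : IsPullback top' A.f (pr U) u' := by
    have hiso : IsIso γ' := ⟨γ, e2, e1⟩
    have h3 : IsPullback (κ.hom ≫ γ') A.f (pr T) (𝟙 T) :=
      IsPullback.of_horiz_isIso ⟨by rw [Category.assoc, hγ', hκ', Category.comp_id]⟩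
    have h4 := h3.paste_horiz (isPullback_pmap u')
    rw [Category.assoc, Category.id_comp] at h4
    exact h4
  let y' : Fin 3 → (T ⟶ A.C) := fun j => std3 T j ≫ γ ≫ κ.inv
  have hy' : ∀ j, y' j ≫ A.f = 𝟙 T := fun j => by
    change (std3 T j ≫ γ ≫ κ.inv) ≫ A.f = 𝟙 T
    rw [Category.assoc, Category.assoc, hκi, hγ, std3_pr]
  have hsκ : ∀ i, A.sect i ≫ κ.hom = aff (xAt o ho D i) := fun i => by
    have h3 : A.sect i ≫ top = u₀ ≫ aff (xF k r i) := by
      have h4 := D.h.w_sect (Fin.castAdd 3 i)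
      change Fin.addCases A.sect D.y (Fin.castAdd 3 i) ≫ top =
        u₀ ≫ Fin.addCases (fun i => aff (xF k r i)) (std3 U) (Fin.castAdd 3 i) at h4
      rw [Fin.addCases_left, Fin.addCases_left] at h4
      exact h4
    refine (isPullback_pmap u₀).hom_ext ?_ ?_
    · rw [Category.assoc, hκ, h3]
      exact (aff_pmap u₀ (xF k r i)).symm
    · rw [Category.assoc, hκ', A.sect_f, aff_pr]
  have hsect : ∀ i, A.sect i ≫ top' = u' ≫ aff (xF k r i) := fun i => by
    have h3 : aff (x i) ≫ γ = aff (xAt o ho D i) := aff_end hγ hG (hu i) (hx i)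
    have h4 : aff (xAt o ho D i) ≫ γ' = aff (x i) := by rw [← h3, Category.assoc, e1, Category.comp_id]
    have h5 : u'.appTop (xF k r i) = x i := hg i
    change A.sect i ≫ κ.hom ≫ γ' ≫ pmap u' = u' ≫ aff (xF k r i)
    rw [reassoc_of% (hsκ i), reassoc_of% h4, ← aff_pmap u' (xF k r i), h5]
  have hyt : ∀ j, y' j ≫ top' = u' ≫ std3 U j := fun j => by
    change (std3 T j ≫ γ ≫ κ.inv) ≫ κ.hom ≫ γ' ≫ pmap u' = u' ≫ std3 U j
    rw [Category.assoc, Category.assoc, Iso.inv_hom_id_assoc, reassoc_of% e1, std3_pmap]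
  have hgb : GivenBy (A.map ≫ (LefPen.hypIdeal G).subschemeι) ((Scheme.Modules.pullback top').obj o.L)
      (lc A.f (fun j => pullTop top' (o.ε j)) φ) := by
    refine givenBy_of_local (isInvertible_pullback _ o.inv) fun z => ?_
    obtain ⟨V, hV, f, hf⟩ := exists_local (κ.hom ≫ toZ 1 T) z
    -- the coordinates for the datum `D`
    have hf0 : GivenBy (V.ι ≫ top ≫ toZ 1 U) (Coh.structureModule V.toScheme) (fun a => ofFun (f a)) := by
      rw [← hκ, Category.assoc, pmap_toZ]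
      exact hf
    obtain ⟨τ, hτ⟩ := lc_value o V.ι top A.f f hf0 D.φ
    have hD : GivenBy (V.ι ≫ A.map ≫ (LefPen.hypIdeal G).subschemeι) (Coh.structureModule V.toScheme)
        (fun l => ofFun (vl (fun l i => (V.ι ≫ A.f).appTop (D.φ l i)) l (f 0) (f 1))) := by
      have h3 := (D.givenBy.comp V.ι).of_iso τ
      have h4 : (fun l => τ.hom.app ⊤ (pullTop V.ι (lc A.f (fun j => pullTop D.h.top (o.ε j)) D.φ l))) =
        (fun l => ofFun (vl (fun l i => (V.ι ≫ A.f).appTop (D.φ l i)) l (f 0) (f 1))) := funext hτ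
      exact h4 ▸ h3
    -- the new coordinates
    have hf1 := givenBy_comp_lsec' (ψ := V.ι ≫ κ.hom) (by rw [Category.assoc]; exact hf) hG'
    have hpr : (V.ι ≫ κ.hom) ≫ pr T = V.ι ≫ A.f := by rw [Category.assoc, hκ']
    rw [hpr] at hf1
    let w : Fin (1 + 1) → Γ(V.toScheme, ⊤) := fun m =>
      (V.ι ≫ A.f).appTop ((![δ * d', -(δ * c)] : Fin (1 + 1) → Γ(T, ⊤)) m) * f 0 +
        (V.ι ≫ A.f).appTop ((![-(δ * b), δ * a] : Fin (1 + 1) → Γ(T, ⊤)) m) * f 1
    have hf1' : GivenBy (V.ι ≫ top' ≫ toZ 1 U) (Coh.structureModule V.toScheme) (fun m => ofFun (w m)) := by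
      have h3 : V.ι ≫ top' ≫ toZ 1 U = (V.ι ≫ κ.hom) ≫ γ' ≫ toZ 1 T := by
        change V.ι ≫ (κ.hom ≫ γ' ≫ pmap u') ≫ toZ 1 U = _
        simp only [Category.assoc, pmap_toZ]
        rfl
      rw [h3]
      exact hf1
    obtain ⟨τ', hτ'⟩ := lc_value o V.ι top' A.f w hf1' φ
    refine ⟨V, hV, _, τ', hτ', ?_⟩
    have h5 : (fun l => vl (fun l i => (V.ι ≫ A.f).appTop (φ l i)) l (w 0) (w 1)) =
        (fun l => vl (fun l i => (V.ι ≫ A.f).appTop (D.φ l i)) l (f 0) (f 1)) := by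
      funext l
      have h6 := hφ (V.ι ≫ A.f).appTop.hom l (w 0) (w 1)
      have hρ := congrArg (V.ι ≫ A.f).appTop.hom hδ
      rw [map_mul, map_sub, map_mul, map_mul, map_one] at hρ
      have h7 : (V.ι ≫ A.f).appTop.hom a * w 0 + (V.ι ≫ A.f).appTop.hom b * w 1 = f 0 := by
        have hw0 : w 0 = (V.ι ≫ A.f).appTop.hom δ * (V.ι ≫ A.f).appTop.hom d' * f 0 +
            -((V.ι ≫ A.f).appTop.hom δ * (V.ι ≫ A.f).appTop.hom b) * f 1 := by
          change (V.ι ≫ A.f).appTop.hom (δ * d') * f 0 + (V.ι ≫ A.f).appTop.hom (-(δ * b)) * f 1 = _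
          rw [map_mul, map_neg, map_mul]
        have hw1 : w 1 = -((V.ι ≫ A.f).appTop.hom δ * (V.ι ≫ A.f).appTop.hom c) * f 0 +
            (V.ι ≫ A.f).appTop.hom δ * (V.ι ≫ A.f).appTop.hom a * f 1 := by
          change (V.ι ≫ A.f).appTop.hom (-(δ * c)) * f 0 + (V.ι ≫ A.f).appTop.hom (δ * a) * f 1 = _
          rw [map_mul, map_neg, map_mul]
        rw [hw0, hw1]
        linear_combination f 0 * hρ
      have h8 : (V.ι ≫ A.f).appTop.hom c * w 0 + (V.ι ≫ A.f).appTop.hom d' * w 1 = f 1 := by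
        have hw0 : w 0 = (V.ι ≫ A.f).appTop.hom δ * (V.ι ≫ A.f).appTop.hom d' * f 0 +
            -((V.ι ≫ A.f).appTop.hom δ * (V.ι ≫ A.f).appTop.hom b) * f 1 := by
          change (V.ι ≫ A.f).appTop.hom (δ * d') * f 0 + (V.ι ≫ A.f).appTop.hom (-(δ * b)) * f 1 = _
          rw [map_mul, map_neg, map_mul]
        have hw1 : w 1 = -((V.ι ≫ A.f).appTop.hom δ * (V.ι ≫ A.f).appTop.hom c) * f 0 +
            (V.ι ≫ A.f).appTop.hom δ * (V.ι ≫ A.f).appTop.hom a * f 1 := by
          change (V.ι ≫ A.f).appTop.hom (-(δ * c)) * f 0 + (V.ι ≫ A.f).appTop.hom (δ * a) * f 1 = _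
          rw [map_mul, map_neg, map_mul]
        rw [hw0, hw1]
        linear_combination f 1 * hρ
      rw [h7, h8] at h6
      exact h6
    rw [show (fun l => (ofFun (vl (fun l i => (V.ι ≫ A.f).appTop (φ l i)) l (w 0) (w 1)) : Γ(Coh.structureModule V.toScheme, ⊤))) =
      fun l => ofFun (vl (fun l i => (V.ι ≫ A.f).appTop (D.φ l i)) l (f 0) (f 1)) from funext fun l => congrArg ofFun (congrFun h5 l)]
    exact hD
  refine ⟨{ y := y', hy := hy', h := ⟨g, top', cart', ?_⟩, φ := φ, givenBy := hgb }, hg, fun l j => rfl⟩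
  refine Fin.addCases (fun i => ?_) (fun i => ?_)
  · change Fin.addCases A.sect y' (Fin.castAdd 3 i) ≫ top' =
        u' ≫ Fin.addCases (fun i => aff (xF k r i)) (std3 U) (Fin.castAdd 3 i)
    rw [Fin.addCases_left, Fin.addCases_left]
    exact hsect i
  · change Fin.addCases A.sect y' (Fin.natAdd r i) ≫ top' =
        u' ≫ Fin.addCases (fun i => aff (xF k r i)) (std3 U) (Fin.natAdd r i)
    rw [Fin.addCases_right, Fin.addCases_right]
    exact hyt i

/-- **Node HM.** Change of coordinates on the projective line (over a field; `Y` is any family over it with a datum). -/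
theorem exists_datum_of_matrix {L : Type u} [Field L] (q : Spec (CommRingCat.of L) ⟶ Spec (CommRingCat.of k))
    (Y : (Mst G r e).obj) (hY : Y.obj.base = Over.mk q) (D : Datum (l0 (hi := hi) (hp := hp) o ho) Y.obj)
    (a b c d' : Γ(Y.obj.base.left, ⊤)) (hdet : IsUnit (a * d' - b * c)) (x : Fin r → Γ(Y.obj.base.left, ⊤))
    (hx : ∀ i, xAt o ho D i * (a + b * x i) = c + d' * x i)
    (h0 : ∀ i, IsUnit (x i)) (h1 : ∀ i, IsUnit (x i - 1)) (h2 : ∀ i j, i ≠ j → IsUnit (x i - x j))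
    (hu : ∀ i, IsUnit (a + b * x i))
    (φ : Fin (n + 1) → Fin (e + 1) → Γ(Y.obj.base.left, ⊤))
    (hφ : ∀ l s t, vl φ l s t = vl D.φ l (a * s + b * t) (c * s + d' * t)) (hinf : Infinite L) :
    ∃ D' : Datum (l0 (hi := hi) (hp := hp) o ho) Y.obj, (∀ i, xAt o ho D' i = x i) ∧ ∀ l j, D'.φ l j = φ l j := by
  have h3 : IsDomain Γ(Y.obj.base.left, ⊤) ∧ Infinite Γ(Y.obj.base.left, ⊤) := by
    rw [hY]
    change IsDomain Γ(Spec (CommRingCat.of L), ⊤) ∧ Infinite Γ(Spec (CommRingCat.of L), ⊤)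
    let ε : L ≃+* Γ(Spec (CommRingCat.of L), ⊤) := (Scheme.ΓSpecIso (CommRingCat.of L)).commRingCatIsoToRingEquiv.symm
    exact ⟨ε.symm.toMulEquiv.isDomain L, Infinite.of_injective ε ε.injective⟩
  obtain ⟨h4, h5⟩ := h3
  exact exists_datum o ho Y.obj D a b c d' hdet x hx h0 h1 h2 hu φ fun ρ l s t => vl_eq hφ ρ l s t

end Main

end K119.HonM
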